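import Cfsg.Agent.Lib.Helper59.FO.Base
import Cfsg.Agent.S1011
import Cfsg.Agent.S0811

set_option autoImplicit false
open Subgroup

namespace Cfsg.Agent.Lib.Helper59.FO

variable {G : Type*} [Group G] [Finite G]

theorem no_504 (c : Cfg G) : Nat.card G ≠ 504 := by
  intro h
  haveI := c.simple
  haveI : Fact (Nat.Prime 2) := ⟨Nat.prime_two⟩
  letI : Fintype (GaloisField 2 3) := Fintype.ofFinite _
  have hF : Fintype.card (GaloisField 2 3) = 8 := by
    rw [← Nat.card_eq_fintype_card, GaloisField.card 2 3 (by norm_num)]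
    norm_num
  obtain ⟨e⟩ := Cfsg.Agent.S1011.result h hF
  obtain ⟨H, -, ⟨f⟩⟩ := Cfsg.Agent.S0811.result hF (by decide)
  have h9 : (8 + 1) / Nat.gcd 2 (8 - 1) = 9 := by norm_num
  rw [h9] at f
  set x : G := e.symm ((f.symm (DihedralGroup.r 1) : H) : Matrix.ProjectiveSpecialLinearGroup (Fin 2) (GaloisField 2 3))
    with hx
  have hord : orderOf x = 9 := by
    rw [hx, MulEquiv.orderOf_eq, Subgroup.orderOf_coe, MulEquiv.orderOf_eq, DihedralGroup.orderOf_r_one]
  have hx1 : x ≠ 1 := by
    intro h1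
    rw [h1, orderOf_one] at hord
    omega
  have := c.prime_order x hx1
  rw [hord] at this
  exact absurd this (by norm_num)

end Cfsg.Agent.Lib.Helper59.FO
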