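import Cfsg.Agent.Lib.Helper59.FO.A1
import Cfsg.Agent.Lib.Helper59.FO.A3
import Cfsg.Agent.Lib.Helper59.FO.B1
import Cfsg.Agent.Lib.Helper59.FO.B2
import Cfsg.Agent.Lib.Helper59.FO.B3
import Cfsg.Agent.Lib.Helper59.FO.B4
import Cfsg.Agent.Lib.Helper59.FO.B5
import Cfsg.Agent.Lib.Helper59.FO.R1
import Cfsg.Agent.Lib.Helper59.FO.R2
import Cfsg.Agent.Lib.Helper59.FO.R3
import Cfsg.Agent.Lib.Helper59.FO.R4
import Cfsg.Agent.Lib.Helper59.FO.IC1
import Cfsg.Agent.Lib.Helper59.FO.IC2
import Cfsg.Agent.Lib.Helper59.FO.IC3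
import Cfsg.Agent.Lib.Helper59.FO.K1
import Cfsg.Agent.Lib.Helper59.FO.K2
import Cfsg.Agent.Lib.Helper59.FO.AR1
import Cfsg.Agent.Lib.Helper59.FO.AR2
import Cfsg.Agent.Lib.Helper59.FO.AR3
import Cfsg.Agent.Lib.Helper59.FO.AR4
import Cfsg.Agent.Lib.Helper59.FO.F1

set_option autoImplicit false
open Subgroup

namespace Cfsg.Agent.Lib.Helper59.FO

variable {G : Type*} [Group G] [Finite G]

namespace Main

theorem card_pos' : 0 < Nat.card G := Nat.card_pos

theorem sy_dvd (s : ℕ) : sy G s ∣ Nat.card G := Nat.ordProj_dvd _ _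

theorem sy_pos {s : ℕ} (hs : s.Prime) : 0 < sy G s := pow_pos hs.pos _

theorem index_sylow {s : ℕ} [Fact s.Prime] (P : Sylow s G) :
    (P : Subgroup G).index * sy G s = Nat.card G := by
  rw [← card_sylow s P, mul_comm]
  exact (P : Subgroup G).card_mul_index

/-- a Sylow subgroup is proper. -/
theorem two_le_index (c : Cfg G) {s : ℕ} [Fact s.Prime] (P : Sylow s G) : 2 ≤ (P : Subgroup G).index := by
  by_contra hlt
  have hne : (P : Subgroup G).index ≠ 0 := Subgroup.index_ne_zero_of_finite
  have h1 : (P : Subgroup G).index = 1 := by omega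
  have h := index_sylow P
  rw [h1, one_mul] at h
  have h3 := c.three
  rw [← h, sy] at h3
  have : (s ^ (Nat.card G).factorization s).primeFactors ⊆ {s} := by
    intro r hr
    have hr1 := Nat.prime_of_mem_primeFactors hr
    have hr2 := Nat.dvd_of_mem_primeFactors hr
    have := (Nat.prime_dvd_prime_iff_eq hr1 (Fact.out : s.Prime)).mp (hr1.dvd_of_dvd_pow hr2)
    simp [this]
  have := Finset.card_le_card this
  simp at this
  omega

theorem inf_centralizer_of_comm (P : Subgroup G) (hP : ∀ x ∈ P, ∀ y ∈ P, x * y = y * x) :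
    P ⊓ centralizer (P : Set G) = P := by
  apply inf_eq_left.mpr
  intro x hx
  rw [mem_centralizer_iff]
  intro y hy
  exact hP y hy x hx

/-- data for an abelian Sylow subgroup. -/
theorem nEl_comm (c : Cfg G) {s : ℕ} [Fact s.Prime] (hs : s ∣ Nat.card G) (P : Sylow s G)
    (hP : ∀ x ∈ (P : Subgroup G), ∀ y ∈ (P : Subgroup G), x * y = y * x) :
    nEl G s = (normalizer ((P : Subgroup G) : Set G)).index * (sy G s - 1) := by
  rw [nEl_eq c hs P, inf_centralizer_of_comm _ hP, card_sylow]

/-- the alternative for an odd prime. -/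
theorem odd_data (c : Cfg G) {s : ℕ} [Fact s.Prime] (hs2 : s ≠ 2) (hs : s ∣ Nat.card G) :
    (∃ i : ℕ, nEl G s = i * (sy G s - 1) ∧ 2 * i * sy G s = Nat.card G ∧ RR G s = nEl G s * sy G s) ∨
    (∃ m : ℕ, m * sy G s = Nat.card G ∧ 3 * nEl G s + m ≤ Nat.card G ∧ RR G s = 0) := by
  obtain ⟨P⟩ : Nonempty (Sylow s G) := inferInstance
  by_cases h : IsReal G s
  · left
    obtain ⟨hc, hN⟩ := real_struct c hs2 h P
    refine ⟨_, nEl_comm c hs P hc, ?_, RR_real c hs2 h⟩
    have := (normalizer ((P : Subgroup G) : Set G)).card_mul_index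
    rw [hN, card_sylow] at this
    rw [← this]; ring
  · right
    exact ⟨_, index_sylow P, bound_of_odd c hs P (not_real_odd c hs2 hs h P), RR_not_real h⟩

theorem two_dvd (c : Cfg G) : 2 ∣ Nat.card G := by
  by_contra h2
  have hb : ∀ s ∈ (Nat.card G).primeFactors, 3 * nEl G s + 2 ≤ Nat.card G := by
    intro s hs
    have : Fact s.Prime := ⟨Nat.prime_of_mem_primeFactors hs⟩
    obtain ⟨P⟩ : Nonempty (Sylow s G) := inferInstance
    have h := bound_of_odd c (Nat.dvd_of_mem_primeFactors hs) P
      (fun h => h2 (h.trans (Subgroup.card_subgroup_dvd_card _)))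
    have := two_le_index c P
    omega
  have hsum := Finset.sum_le_sum hb
  rw [Finset.sum_add_distrib, ← Finset.mul_sum] at hsum
  simp only [Finset.sum_const, c.three, smul_eq_mul] at hsum
  have := card_eq_sum c
  omega

end Main

open Main in
theorem main (c : Cfg G) : Nat.card G = 60 := by
  have h2 := two_dvd c
  have hg0 : Nat.card G ≠ 0 := Nat.card_pos.ne'
  have h2m : 2 ∈ (Nat.card G).primeFactors := Nat.mem_primeFactors.mpr ⟨Nat.prime_two, h2, hg0⟩
  have he : ((Nat.card G).primeFactors.erase 2).card = 2 := by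
    rw [Finset.card_erase_of_mem h2m, c.three]
  obtain ⟨q, r, hqr, hE⟩ := Finset.card_eq_two.mp he
  have hqm : q ∈ (Nat.card G).primeFactors.erase 2 := by rw [hE]; simp
  have hrm : r ∈ (Nat.card G).primeFactors.erase 2 := by rw [hE]; simp
  have hq2 : q ≠ 2 := (Finset.mem_erase.mp hqm).1
  have hr2 : r ≠ 2 := (Finset.mem_erase.mp hrm).1
  have hqp : q.Prime := Nat.prime_of_mem_primeFactors (Finset.mem_erase.mp hqm).2
  have hrp : r.Prime := Nat.prime_of_mem_primeFactors (Finset.mem_erase.mp hrm).2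
  have hqd : q ∣ Nat.card G := Nat.dvd_of_mem_primeFactors (Finset.mem_erase.mp hqm).2
  have hrd : r ∣ Nat.card G := Nat.dvd_of_mem_primeFactors (Finset.mem_erase.mp hrm).2
  have : Fact q.Prime := ⟨hqp⟩
  have : Fact r.Prime := ⟨hrp⟩
  have hPF : (Nat.card G).primeFactors = insert 2 ({q, r} : Finset ℕ) := by
    rw [← hE, Finset.insert_erase h2m]
  have h2n : 2 ∉ ({q, r} : Finset ℕ) := by
    simp only [Finset.mem_insert, Finset.mem_singleton, not_or]
    exact ⟨hq2.symm, hr2.symm⟩
  have hqn : q ∉ ({r} : Finset ℕ) := by simpa using hqr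
  -- the order
  set u := sy G 2 with hu
  set X := sy G q with hX
  set Y := sy G r with hY
  have hg : Nat.card G = u * X * Y := by
    conv_lhs => rw [← Nat.prod_factorization_pow_eq_self hg0]
    rw [Finsupp.prod, Nat.support_factorization, hPF, Finset.prod_insert h2n, Finset.prod_insert hqn,
      Finset.prod_singleton, mul_assoc]
    rfl
  have hsum : Nat.card G = 1 + nEl G 2 + nEl G q + nEl G r := by
    have := card_eq_sum c
    rw [hPF, Finset.sum_insert h2n, Finset.sum_insert hqn, Finset.sum_singleton] at this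
    omega
  have hcount : nEl G 2 * nEl G 2 = nEl G 2 * (u - 1) + RR G q + RR G r := by
    have := invol_count c
    rw [hE, Finset.sum_insert hqn, Finset.sum_singleton] at this
    rw [this, add_assoc]
  have hfq : 1 ≤ (Nat.card G).factorization q := (hqp.dvd_iff_one_le_factorization hg0).mp hqd
  have hfr : 1 ≤ (Nat.card G).factorization r := (hrp.dvd_iff_one_le_factorization hg0).mp hrd
  have hf2 : 1 ≤ (Nat.card G).factorization 2 := (Nat.prime_two.dvd_iff_one_le_factorization hg0).mp h2
  have hq3 : 3 ≤ q := by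
    have := hqp.two_le
    omega
  have hr3 : 3 ≤ r := by
    have := hrp.two_le
    omega
  have hX3 : 3 ≤ X := le_trans hq3 (Nat.le_self_pow (by omega) q)
  have hY3 : 3 ≤ Y := le_trans hr3 (Nat.le_self_pow (by omega) r)
  have hu2 : 2 ≤ u := Nat.le_self_pow (by omega) 2
  -- the Sylow 2-subgroup
  obtain ⟨T⟩ : Nonempty (Sylow 2 G) := inferInstance
  obtain ⟨k, hkp, hk2, hkN, hku⟩ := k_two c h2 T
  rw [card_sylow] at hkN hku
  have hI := nEl_comm c h2 T (sylow_two_comm c T)
  set i := (normalizer ((T : Subgroup G) : Set G)).index with hi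
  have hik : i * k = X * Y := by
    have := (normalizer ((T : Subgroup G) : Set G)).card_mul_index
    rw [hkN, hg] at this
    have hu0 : 0 < u := by omega
    apply Nat.eq_of_mul_eq_mul_left hu0
    calc u * (i * k) = k * u * i := by ring
      _ = u * X * Y := this
      _ = u * (X * Y) := by ring
  have hk3 : 3 ≤ k := by
    have := hkp.two_le
    omega
  have hkodd : Odd k := hkp.odd_of_ne_two hk2
  rw [hg] at hsum
  rcases odd_data c hq2 hqd with ⟨iq, hnq, hiq, hRq⟩ | ⟨mq, hmq, hbq, hRq⟩ <;>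
  rcases odd_data c hr2 hrd with ⟨ir, hnr, hir, hRr⟩ | ⟨mr, hmr, hbr, hRr⟩
  · -- both real
    have hiq' : 2 * iq = u * Y := by
      have hX0 : 0 < X := by omega
      apply Nat.eq_of_mul_eq_mul_right hX0
      rw [hiq, hg]; ring
    have hir' : 2 * ir = u * X := by
      have hY0 : 0 < Y := by omega
      apply Nat.eq_of_mul_eq_mul_right hY0
      rw [hir, hg]
    rw [hRq, hRr] at hcount
    obtain ⟨hk1, hrel⟩ := ar_two_a hu2 hX3 hY3 hkp.pos hik hI hnq hiq' hnr hir' hsum hcount
    -- k is q or r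
    have hkd : k ∣ X * Y := ⟨i, by rw [← hik]; ring⟩
    have hfin : ∀ (q' r' X' Y' : ℕ) (b' c' : ℕ), q'.Prime → r'.Prime → 3 ≤ q' → X' = q' ^ b' → 1 ≤ b' →
        Y' = r' ^ c' → 3 ≤ Y' → k = q' → 2 * (X' * Y') + 2 = u * (X' + Y') →
        u * X' * Y' = 60 ∨ u * X' * Y' = 504 := by
      intro q' r' X' Y' b' c' hq' hr' hq3' hX' hb' hY' hY3' hkq hrel'
      have huq : u = q' + 1 := by omega
      obtain ⟨h1, h2'⟩ := ar_two_b hq' hq3' huq hX' hb' hY3' hrel'
      have := ar_two_c (a := (Nat.card G).factorization 2) (c := c') hq' hr' (by rw [← huq]; rfl)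
        (by rw [← hY', h2'])
      rcases this with h | h
      · left; rw [huq, h1, h2', h]
      · right; rw [huq, h1, h2', h]
    have h60 : u * X * Y = 60 ∨ u * X * Y = 504 := by
      rcases (Nat.Prime.dvd_mul hkp).mp hkd with h | h
      · have hkq : k = q := (Nat.prime_dvd_prime_iff_eq hkp hqp).mp (hkp.dvd_of_dvd_pow h)
        exact hfin q r X Y _ _ hqp hrp hq3 rfl hfq rfl hY3 hkq hrel
      · have hkr : k = r := (Nat.prime_dvd_prime_iff_eq hkp hrp).mp (hkp.dvd_of_dvd_pow h)
        have := hfin r q Y X _ _ hrp hqp hr3 rfl hfr rfl hX3 hkr (by rw [mul_comm Y X, add_comm Y X]; exact hrel)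
        rcases this with h | h
        · left; rw [← h]; ring
        · right; rw [← h]; ring
    rcases h60 with h | h
    · rw [hg, h]
    · exact absurd (hg.trans h) (no_504 c)
  · -- q real, r not
    exfalso
    have hiq' : 2 * iq = u * Y := by
      have hX0 : 0 < X := by omega
      apply Nat.eq_of_mul_eq_mul_right hX0
      rw [hiq, hg]; ring
    have hmr' : mr = u * X := by
      have hY0 : 0 < Y := by omega
      apply Nat.eq_of_mul_eq_mul_right hY0
      rw [hmr, hg]
    rw [hRq, hRr, add_zero] at hcount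
    rw [hmr', hg] at hbr
    exact ar_one (a := (Nat.card G).factorization 2) rfl hu2 hX3 hY3 hk3 hkodd hku hik hI hnq hiq' hbr hsum hcount
  · -- r real, q not
    exfalso
    have hir' : 2 * ir = u * X := by
      have hY0 : 0 < Y := by omega
      apply Nat.eq_of_mul_eq_mul_right hY0
      rw [hir, hg]
    have hmq' : mq = u * Y := by
      have hX0 : 0 < X := by omega
      apply Nat.eq_of_mul_eq_mul_right hX0
      rw [hmq, hg]; ring
    rw [hRq, hRr, add_zero] at hcount
    rw [hmq', hg] at hbq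
    have hbq' : 3 * nEl G q + u * Y ≤ u * Y * X := by
      rw [show u * Y * X = u * X * Y by ring]; exact hbq
    have hsum' : u * Y * X = 1 + nEl G 2 + nEl G r + nEl G q := by
      rw [show u * Y * X = u * X * Y by ring]; omega
    exact ar_one (u := u) (a := (Nat.card G).factorization 2) (X := Y) (Y := X) (nq := nEl G r) (nr := nEl G q) rfl hu2
      hY3 hX3 hk3 hkodd hku (by rw [hik]; ring) hI hnr hir' hbq' hsum' hcount
  · -- none real
    exfalso
    rw [hRq, hRr, add_zero, add_zero] at hcount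
    have hIpos : 0 < nEl G 2 := by
      rw [hI]
      have hi0 : i ≠ 0 := Subgroup.index_ne_zero_of_finite
      have : 0 < u - 1 := by omega
      positivity
    have hIu : nEl G 2 = u - 1 := Nat.eq_of_mul_eq_mul_left hIpos hcount
    have hi1 : i = 1 := by
      have : i * (u - 1) = 1 * (u - 1) := by rw [← hI, hIu, one_mul]
      exact Nat.eq_of_mul_eq_mul_right (by omega) this
    have hk' : k = X * Y := by rw [← hik, hi1, one_mul]
    -- k prime but X * Y is not
    have := hkp
    rw [hk'] at this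
    exact Nat.not_prime_mul (by omega) (by omega) this

end Cfsg.Agent.Lib.Helper59.FO
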